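import Cfsg.Agent.Blocks.BlockCount
import Cfsg.Agent.Blocks.Regular
import Cfsg.Agent.Blocks.BlockSize
import Cfsg.Agent.SL2C.Values
import Cfsg.Agent.SL2C.Unipotent

/-!
The blocks of `SL(2,q)`, `q` odd, at the defining prime.
-/

namespace CfsgLib.SL2Blocks

open Cfsg CfsgLib.Block CfsgLib.Block.Chr CfsgLib.SL2C
open scoped ComplexConjugate

set_option linter.unusedSectionVars false
set_option linter.style.haveILetI false

section General

variable {G : Type*} [Group G] [Fintype G] {M : Ideal AlgInt} [M.IsPrime] {p : ℕ}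

/-- a character whose degree has the full `p`-part is alone in its block -/
theorem blockOf_eq_singleton_of_degree (hM : IsPModular p M) (χ : IrrCharacter G)
    (h : (Nat.card G).factorization p ≤ (charDegree (χ : G → ℂ)).factorization p) :
    blockOf M (χ : G → ℂ) = {χ} := by
  classical
  letI := irrFintype (G := G)
  refine Set.eq_singleton_iff_unique_mem.2 ⟨mem_blockOf_self χ, fun ψ hψ => ?_⟩
  refine blockOf_subset_of_integral (A := {χ}) (fun g => ?_) rfl hψ
  rw [blockCoeff, finsum_mem_singleton, (irr_one χ).1, ← mul_assoc]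
  refine memLocalRing_mul ?_ (by rw [conj_irr]; exact irr_mem χ _)
  set a := (Nat.card G).factorization p
  obtain ⟨m, hm⟩ : p ^ a ∣ Nat.card G := Nat.ordProj_dvd _ _
  obtain ⟨d, hd⟩ : p ^ a ∣ charDegree (χ : G → ℂ) :=
    (hM.1.pow_dvd_iff_le_factorization (irr_one χ).2.ne').2 h
  have hmp : ¬ p ∣ m := by
    intro hd'
    apply Nat.not_dvd_ordCompl hM.1 (Nat.card_pos (α := G)).ne'
    have : Nat.card G / p ^ a = m := by rw [hm]; exact Nat.mul_div_cancel_left _ (pow_pos hM.1.pos _)
    rw [this]; exact hd'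
  have hp0 : (p : ℂ) ≠ 0 := Nat.cast_ne_zero.2 hM.1.ne_zero
  rw [hm, hd]
  push_cast
  have : ((p : ℂ) ^ a * (m : ℂ))⁻¹ * ((p : ℂ) ^ a * (d : ℂ)) = (m : ℂ)⁻¹ * (d : ℂ) := by
    field_simp
  rw [this]
  exact memLocalRing_mul (memLocalRing_natCast_inv hM hmp) (natCast_mem_localRing _)

/-- a block with a member of degree prime to `p` has full defect -/
theorem blockDefect_of_degree {B : Set (IrrCharacter G)} {χ : IrrCharacter G} (hχ : χ ∈ B)
    (h : ¬ p ∣ charDegree (χ : G → ℂ)) : blockDefect p B = (Nat.card G).factorization p := by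
  have : sInf ((fun χ : IrrCharacter G => (charDegree (χ : G → ℂ)).factorization p) '' B) = 0 :=
    Nat.eq_zero_of_le_zero (Nat.sInf_le ⟨χ, hχ, Nat.factorization_eq_zero_of_not_dvd h⟩)
  rw [blockDefect, this, Nat.sub_zero]

/-- in a block of full defect every Sylow subgroup is a defect group -/
theorem isDefectGroup_sylow [Fact p.Prime] (hM : IsPModular p M) {B : Set (IrrCharacter G)}
    (hB : IsPBlock M B) (h : blockDefect p B = (Nat.card G).factorization p) (P : Sylow p G) :
    IsDefectGroup p M B (P : Subgroup G) := by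
  obtain ⟨D, hD⟩ := exists_defectGroup hB hM
  have hc : Nat.card D = p ^ (Nat.card G).factorization p := h ▸ card_defectGroup hM hB hD
  obtain ⟨x, hx⟩ := MulAction.exists_smul_eq G (Sylow.ofCard D hc) P
  have h2 := isDefectGroup_conj hM hB hD x
  have : (P : Subgroup G) = D.map (MulAut.conj x).toMonoidHom := by
    rw [← hx, Sylow.coe_subgroup_smul, Sylow.coe_ofCard]
    rfl
  rw [this]
  exact h2

theorem centralizer_eq_top {x : G} (hx : x ∈ Subgroup.center G) :
    Subgroup.centralizer ({x} : Set G) = ⊤ := by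
  rw [eq_top_iff]
  intro g _
  exact Subgroup.mem_centralizer_singleton_iff.2 (Subgroup.mem_center_iff.1 hx g)

end General

variable {F : Type*} [Field F] [Fintype F]

theorem neg_one_mem_center : (-1 : SL F) ∈ Subgroup.center (SL F) := by
  rw [Subgroup.mem_center_iff]
  intro g
  apply Subtype.ext
  simp

theorem eq_one_or_neg_one {g : SL F} (hg : g ∈ Subgroup.center (SL F)) : g = 1 ∨ g = -1 := by
  obtain ⟨e, he, rfl⟩ := exists_eq_bor_of_mem_center hg
  rcases mul_self_eq_one_iff.1 (by rw [← Units.val_mul, he, Units.val_one] : (e : F) * e = 1) with h | h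
  · left
    have : e = 1 := Units.ext h
    rw [this, bor_one_zero]
  · right
    have : e = -1 := Units.ext (by rw [h, Units.val_neg, Units.val_one])
    subst this
    apply mt_injective
    ext i j
    fin_cases i <;> fin_cases j <;> simp [mt_bor]

theorem neg_one_ne_one (hodd : Odd (Fintype.card F)) : (-1 : SL F) ≠ 1 := fun h => by
  have h1 := congrArg (fun g : SL F => mt g 0 0) h
  simp at h1
  exact two_ne_zero_of_odd hodd (by linear_combination (-1 : F) * h1)

/-- every irreducible character is a multiple of its degree at `-1` by a sign -/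
theorem apply_neg_one (χ : IrrCharacter (SL F)) :
    (χ : SL F → ℂ) (-1) = (χ : SL F → ℂ) 1 ∨ (χ : SL F → ℂ) (-1) = -(χ : SL F → ℂ) 1 := by
  classical
  have hc : (-1 : SL F) ∈ Subgroup.center (SL F) := neg_one_mem_center
  have h1 := irr_central_mul χ hc 1
  have h2 := irr_central_mul χ hc (-1)
  rw [mul_one] at h1
  have he : (-1 : SL F) * -1 = 1 := by simp
  rw [he, h1, ← mul_assoc] at h2
  set w := centralChar (χ : SL F → ℂ) (-1)
  have hw : w * w = 1 := by
    have h3 : (1 : ℂ) * (χ : SL F → ℂ) 1 = w * w * (χ : SL F → ℂ) 1 := by rw [one_mul]; exact h2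
    exact (mul_right_cancel₀ (irr_one_ne_zero χ) h3).symm
  rcases mul_self_eq_one_iff.1 hw with h | h <;> [left; right] <;> rw [h1, h] <;> ring

/-- the degree is `q` or prime to `p` -/
theorem degree_coprime (p : ℕ) [Fact p.Prime] [CharP F p] (hp : p ≠ 2) (χ : IrrCharacter (SL F))
    (hne : (χ : SL F → ℂ) 1 ≠ (Fintype.card F : ℂ)) : ¬ p ∣ charDegree (χ : SL F → ℂ) := by
  obtain ⟨c, hc⟩ := exists_ell (F := F)
  have hq := card_dvd_char (F := F) p
  have hp' : p.Prime := Fact.out
  have hd := (irr_one χ).1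
  intro hdvd
  have key : ∀ n : ℕ, (2 * charDegree (χ : SL F → ℂ) = n) → p ∣ n := fun n h => h ▸ hdvd.mul_left 2
  have hone : ¬ p ∣ 1 := fun h => hp'.ne_one (Nat.dvd_one.1 h)
  have h2 : ¬ p ∣ 2 := fun h => hp ((Nat.prime_dvd_prime_iff_eq hp' Nat.prime_two).1 h)
  have h2q : 2 ≤ Fintype.card F := two_le_card
  rcases degree_cases hc χ.2 with ⟨-, h⟩ | ⟨-, h⟩ | ⟨-, h⟩ | ⟨-, h⟩ | ⟨-, h⟩ | ⟨-, h⟩
  · have : charDegree (χ : SL F → ℂ) = 1 := by exact_mod_cast hd.symm.trans h
    exact hone (this ▸ hdvd)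
  · exact hne h
  · have : charDegree (χ : SL F → ℂ) = Fintype.card F + 1 := by exact_mod_cast hd.symm.trans h
    exact hone ((Nat.dvd_add_right hq).1 (this ▸ hdvd))
  · have h' : ((charDegree (χ : SL F → ℂ) + 1 : ℕ) : ℂ) = (Fintype.card F : ℂ) := by
      push_cast; rw [← hd, h]; ring
    have : charDegree (χ : SL F → ℂ) + 1 = Fintype.card F := by exact_mod_cast h'
    exact hone ((Nat.dvd_add_right hdvd).1 (this.symm ▸ hq))
  · have h' : ((2 * charDegree (χ : SL F → ℂ) : ℕ) : ℂ) = ((Fintype.card F + 1 : ℕ) : ℂ) := by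
      push_cast; rw [← hd, h]; ring
    have : 2 * charDegree (χ : SL F → ℂ) = Fintype.card F + 1 := by exact_mod_cast h'
    exact hone ((Nat.dvd_add_right hq).1 (key _ this))
  · have h' : ((2 * charDegree (χ : SL F → ℂ) + 1 : ℕ) : ℂ) = (Fintype.card F : ℂ) := by
      push_cast; rw [← hd, h]; ring
    have : 2 * charDegree (χ : SL F → ℂ) + 1 = Fintype.card F := by exact_mod_cast h'
    exact hone ((Nat.dvd_add_right (hdvd.mul_left 2)).1 (this.symm ▸ hq))

/-- regular elements centralizing a Sylow subgroup are central -/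
theorem mem_center_of_regular (p : ℕ) [Fact p.Prime] [CharP F p] (hp : p ≠ 2) {g : SL F}
    (hreg : ¬ p ∣ orderOf g) (hd : p ∣ Nat.card (Subgroup.centralizer ({g} : Set (SL F)))) :
    g ∈ Subgroup.center (SL F) := by
  classical
  have hp' : p.Prime := Fact.out
  have hq := card_dvd_char (F := F) p
  have hcard : ∀ {x : SL F}, IsConj x g →
      Nat.card (Subgroup.centralizer ({x} : Set (SL F))) =
        Nat.card (Subgroup.centralizer ({g} : Set (SL F))) := fun {x} hx => by
    obtain ⟨z, hz⟩ := isConj_iff.1 hx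
    refine Nat.card_congr ((MulAut.conj z).toEquiv.subtypeEquiv fun y => ?_)
    rw [Subgroup.mem_centralizer_singleton_iff, Subgroup.mem_centralizer_singleton_iff, ← hz]
    simp only [MulEquiv.toEquiv_eq_coe, EquivLike.coe_coe, MulAut.conj_apply]
    constructor
    · intro h
      calc z * y * z⁻¹ * (z * x * z⁻¹) = z * (y * x) * z⁻¹ := by group
        _ = z * (x * y) * z⁻¹ := by rw [h]
        _ = _ := by group
    · intro h
      have h' : z * (y * x) * z⁻¹ = z * (x * y) * z⁻¹ := by
        calc z * (y * x) * z⁻¹ = z * y * z⁻¹ * (z * x * z⁻¹) := by group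
          _ = _ := h
          _ = z * (x * y) * z⁻¹ := by group
      exact mul_left_cancel (mul_right_cancel h')
  rcases cases4 g with h | ⟨a, ha, h⟩ | ⟨e, b, he, hb, h⟩ | h
  · exact h
  · exfalso
    rw [← hcard h, card_centralizer_dg (mem_reg.2 ha)] at hd
    have h2q : 2 ≤ Fintype.card F := two_le_card
    have : p ∣ Fintype.card F - (Fintype.card F - 1) := Nat.dvd_sub hq hd
    rw [show Fintype.card F - (Fintype.card F - 1) = 1 by omega] at this
    exact hp'.ne_one (Nat.dvd_one.1 this)
  · exfalso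
    apply hreg
    obtain ⟨z, hz⟩ := isConj_iff.1 h
    rw [← hz, show orderOf (z * bor e b * z⁻¹) = orderOf (bor e b) from
      orderOf_injective (MulAut.conj z).toMonoidHom (MulAut.conj z).injective (bor e b)]
    have h2 : bor e b ^ 2 = bor 1 (2 * (e : F) * b) := by
      rw [pow_two, bor_mul, he, sgn_coe_mul he]
      congr 1
      ring
    have hne : 2 * (e : F) * b ≠ 0 := by
      refine mul_ne_zero (mul_ne_zero ?_ e.ne_zero) hb
      exact Ring.two_ne_zero fun h => hp ((ringChar.eq F p) ▸ h)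
    have := orderOf_pow_dvd (x := bor e b) 2
    rwa [h2, orderOf_bor_one p hne] at this
  · exfalso
    have : Nat.card (Subgroup.centralizer ({g} : Set (SL F))) = Fintype.card F + 1 := card_tor h
    rw [this] at hd
    exact hp'.ne_one (Nat.dvd_one.1 ((Nat.dvd_add_right hq).1 hd))

theorem dvd_factorization_pos (p : ℕ) [Fact p.Prime] [CharP F p] :
    0 < (Nat.card (SL F)).factorization p := by
  apply Nat.Prime.factorization_pos_of_dvd Fact.out Nat.card_pos.ne'
  rw [card_SL2_mul]
  exact (card_dvd_char p).mul_right _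

theorem factorization_card (p : ℕ) [Fact p.Prime] [CharP F p] :
    (Nat.card (SL F)).factorization p ≤ (Fintype.card F).factorization p := by
  have hp' : p.Prime := Fact.out
  have hq := card_dvd_char (F := F) p
  have h2q : 2 ≤ Fintype.card F := two_le_card
  have hsq : Fintype.card F ≤ Fintype.card F ^ 2 := Nat.le_self_pow two_ne_zero _
  have h1 : ¬ p ∣ Fintype.card F ^ 2 - 1 := by
    intro h
    have : p ∣ Fintype.card F ^ 2 - (Fintype.card F ^ 2 - 1) := Nat.dvd_sub (dvd_pow hq two_ne_zero) h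
    rw [show Fintype.card F ^ 2 - (Fintype.card F ^ 2 - 1) = 1 by omega] at this
    exact hp'.ne_one (Nat.dvd_one.1 this)
  rw [card_SL2_mul, Nat.factorization_mul (by omega) (by omega), Finsupp.add_apply,
    Nat.factorization_eq_zero_of_not_dvd h1, add_zero]

/-- two characters of degree prime to `p` with the same sign at `-1` are in one block -/
theorem sameBlock_of_sign (p : ℕ) [Fact p.Prime] [CharP F p] (hp : p ≠ 2) {M : Ideal AlgInt}
    [M.IsPrime] (hM : IsPModular p M) (χ ψ : IrrCharacter (SL F))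
    (hχ : (χ : SL F → ℂ) 1 ≠ (Fintype.card F : ℂ)) (hψ : (ψ : SL F → ℂ) 1 ≠ (Fintype.card F : ℂ))
    (s : ℂ) (h1 : (χ : SL F → ℂ) (-1) = s * (χ : SL F → ℂ) 1)
    (h2 : (ψ : SL F → ℂ) (-1) = s * (ψ : SL F → ℂ) 1) :
    SameBlock M (χ : SL F → ℂ) (ψ : SL F → ℂ) := by
  classical
  refine sameBlock_of_defect_classes hM χ ψ
    (blockDefect_of_degree (mem_blockOf_self χ) (degree_coprime p hp χ hχ))
    (blockDefect_of_degree (mem_blockOf_self ψ) (degree_coprime p hp ψ hψ)) fun x hx hd => ?_
  have hdvd : p ∣ Nat.card (Subgroup.centralizer ({x} : Set (SL F))) :=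
    Nat.dvd_of_factorization_pos (by
      rw [← classDefect, hd]; exact (dvd_factorization_pos p).ne')
  have hcen := mem_center_of_regular p hp hx hdvd
  have hC := centralizer_eq_top hcen
  simp only [centralChar, hC, Subgroup.index_top, Nat.cast_one, one_mul]
  rcases eq_one_or_neg_one hcen with rfl | rfl
  · rw [div_self (irr_one_ne_zero χ), div_self (irr_one_ne_zero ψ), sub_self]
    exact memLocalIdeal_zero
  · rw [h1, h2, mul_div_cancel_right₀ _ (irr_one_ne_zero χ),
      mul_div_cancel_right₀ _ (irr_one_ne_zero ψ), sub_self]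
    exact memLocalIdeal_zero

/-- characters with different signs at `-1` are in different blocks -/
theorem not_sameBlock_of_sign (p : ℕ) (hp : p ≠ 2) {M : Ideal AlgInt}
    [M.IsPrime] (hM : IsPModular p M) (χ ψ : IrrCharacter (SL F))
    (h1 : (χ : SL F → ℂ) (-1) = (χ : SL F → ℂ) 1) (h2 : (ψ : SL F → ℂ) (-1) = -(ψ : SL F → ℂ) 1) :
    ¬ SameBlock M (χ : SL F → ℂ) (ψ : SL F → ℂ) := by
  classical
  intro h
  have h3 := h (-1)
  simp only [centralChar, centralizer_eq_top (neg_one_mem_center (F := F)), Subgroup.index_top,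
    Nat.cast_one, one_mul, h1, h2, neg_div, div_self (irr_one_ne_zero χ),
    div_self (irr_one_ne_zero ψ)] at h3
  rw [show (1 : ℂ) - -1 = ((2 : ℕ) : ℂ) by norm_num, memLocalIdeal_natCast_iff hM] at h3
  exact hp ((Nat.prime_dvd_prime_iff_eq hM.1 Nat.prime_two).1 h3)

theorem exists_odd_char (hodd : Odd (Fintype.card F)) :
    ∃ χ : IrrCharacter (SL F), (χ : SL F → ℂ) (-1) = -(χ : SL F → ℂ) 1 := by
  classical
  letI := irrFintype (G := SL F)
  by_contra h
  push Not at h
  have h1 := column_orth (G := SL F) (-1) 1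
  rw [if_neg fun hc => neg_one_ne_one hodd (by
    obtain ⟨z, hz⟩ := isConj_iff.1 hc
    rw [Subgroup.mem_center_iff.1 neg_one_mem_center z, mul_inv_cancel_right] at hz
    exact hz)] at h1
  have h2 := column_orth (G := SL F) 1 1
  rw [if_pos (IsConj.refl _), ← h1.symm.trans (Finset.sum_congr rfl fun χ _ => by
    rw [(apply_neg_one χ).resolve_right (h χ)])] at h2
  exact (Nat.cast_ne_zero.2 Nat.card_pos.ne') h2.symm

end CfsgLib.SL2Blocks
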